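import Groth.Prelude.Def_ParaF
import Groth.Agent.Lib.InvExt.Gen

/-! Parafactorial pairs: the two conditions on `X`. -/

universe u

open CategoryTheory Limits AlgebraicGeometry Opposite TopologicalSpace GrothLib.InvExt

namespace GrothLib.ParaPair

section Gen

variable {Z U : Scheme.{u}} (g : U ⟶ Z) [IsOpenImmersion g]

theorem app_bijective {T : Z.Opens} (hT : T ≤ g.opensRange) : Function.Bijective (g.app T).hom := by
  haveI := g.isIso_app T hT
  exact ConcreteCategory.bijective_of_isIso (g.app T)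

theorem exists_eq_preimage {T : U.Opens} {V : Z.Opens} (h : T ≤ g ⁻¹ᵁ V) :
    ∃ T' : Z.Opens, T' ≤ V ∧ T' ≤ g.opensRange ∧ T = g ⁻¹ᵁ T' :=
  ⟨g ''ᵁ T, (g.image_mono h).trans (g.image_preimage_le V), g.image_le_opensRange T,
    (g.preimage_image_eq T).symm⟩

theorem isGen_push_iff (L : U.Modules) {V : Z.Opens} (hV : V ≤ g.opensRange) (e : Γ(L, g ⁻¹ᵁ V)) :
    IsGen ((Scheme.Modules.pushforward g).obj L) V e ↔ IsGen L (g ⁻¹ᵁ V) e := by
  constructor
  · intro he T hT
    obtain ⟨T', hT', hT'', rfl⟩ := exists_eq_preimage g hT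
    exact ((app_bijective g hT'').of_comp_iff fun c : Γ(U, g ⁻¹ᵁ T') => c • mres L hT e).1 (he T' hT')
  · exact fun he T hT => (he (g ⁻¹ᵁ T) (fun x hx => hT hx)).comp (app_bijective g (hT.trans hV))

/-- `M` has a generator near `x`. -/
def GenNear (M : Z.Modules) (x : Z) : Prop :=
  ∃ (V : Z.Opens) (e : Γ(M, V)), x ∈ V ∧ IsGen M V e

omit g in
theorem isInvertible_iff {M : Z.Modules} : PicF.IsInvertible M ↔ ∀ x, GenNear M x :=
  ⟨fun h x => exists_gen_nhd h x, isInvertible_of_gens⟩

omit g in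
theorem genNear_of_bijective {M N : Z.Modules} (φ : M ⟶ N) {V₀ : Z.Opens} {x : Z} (hx : x ∈ V₀)
    (hφ : ∀ T ≤ V₀, Function.Bijective (φ.app T)) (h : GenNear N x) : GenNear M x := by
  obtain ⟨V, e, hxV, he⟩ := h
  have hle : V ⊓ V₀ ≤ V := inf_le_left
  obtain ⟨e', he'⟩ := (hφ (V ⊓ V₀) inf_le_right).2 (mres N hle e)
  refine ⟨V ⊓ V₀, e', ⟨hxV, hx⟩, fun T hT => ?_⟩
  refine ((hφ T (hT.trans inf_le_right)).of_comp_iff' _).1 ?_
  have h2 : ((φ.app T : Γ(M, T) → Γ(N, T)) ∘ fun c : Γ(Z, T) => c • mres M hT e') =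
      fun c : Γ(Z, T) => c • mres N hT (mres N hle e) := by
    funext c
    rw [Function.comp_apply, Scheme.Modules.Hom.app_smul, ← he']
    congr 1
    exact congr($(φ.mapPresheaf.naturality (homOfLE hT).op) e')
  rw [h2]
  exact (he.restrict hle) T hT

omit g in
theorem genNear_of_iso {M N : Z.Modules} (φ : M ≅ N) {x : Z} (h : GenNear N x) : GenNear M x :=
  genNear_of_bijective φ.hom (V₀ := ⊤) trivial
    (fun _ _ => ConcreteCategory.bijective_of_isIso _) h

omit g in
theorem isInvertible_of_iso {M N : Z.Modules} (φ : M ≅ N) (h : PicF.IsInvertible N) : PicF.IsInvertible M :=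
  isInvertible_iff.2 fun x => genNear_of_iso φ (isInvertible_iff.1 h x)

theorem genNear_push {L : U.Modules} {u : U} (h : GenNear L u) :
    GenNear ((Scheme.Modules.pushforward g).obj L) (g u) := by
  obtain ⟨W, e, hu, he⟩ := h
  obtain ⟨V, -, hV', rfl⟩ := exists_eq_preimage g (le_of_eq (g.preimage_image_eq W).symm)
  exact ⟨V, e, hu, (isGen_push_iff g L hV' e).2 he⟩

theorem genNear_of_push {L : U.Modules} {u : U}
    (h : GenNear ((Scheme.Modules.pushforward g).obj L) (g u)) : GenNear L u := by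
  obtain ⟨V, e, hu, he⟩ := h
  refine ⟨g ⁻¹ᵁ (V ⊓ g.opensRange), mres ((Scheme.Modules.pushforward g).obj L) inf_le_left e, ⟨hu, ⟨u, rfl⟩⟩, ?_⟩
  exact (isGen_push_iff g L inf_le_right _).1 (he.restrict _)

theorem isInvertible_push_of_isIso [IsIso g] {L : U.Modules} (h : PicF.IsInvertible L) :
    PicF.IsInvertible ((Scheme.Modules.pushforward g).obj L) := by
  refine isInvertible_iff.2 fun x => ?_
  obtain ⟨u, rfl⟩ := g.surjective x
  exact genNear_push g (isInvertible_iff.1 h u)

theorem isInvertible_structure (Z : Scheme.{u}) : PicF.IsInvertible (Coh.structureModule Z) := fun _ =>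
  ⟨⊤, trivial, ⟨Scheme.Modules.restrictUnitIso _⟩⟩

theorem genNear_unit_iff (M : Z.Modules) {x : Z} (hx : x ∈ g.opensRange) :
    GenNear ((Scheme.Modules.pushforward g).obj (M.restrict g)) x ↔ GenNear M x := by
  have hbij : ∀ T ≤ g.opensRange, Function.Bijective (((Scheme.Modules.restrictAdjunction g).unit.app M).app T) := by
    intro T hT
    rw [Scheme.Modules.restrictAdjunction_unit_app_app]
    have key : ∀ (T' : Z.Opens) (h : T' ≤ T), T' = T → Function.Bijective (M.presheaf.map (homOfLE h).op) := by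
      rintro _ h rfl
      exact ⟨fun a b hab => by simpa [mres_self] using hab, fun a => ⟨a, mres_self M a⟩⟩
    exact key _ _ (by rw [Scheme.Hom.image_preimage_eq_opensRange_inf, inf_eq_right.2 hT])
  refine ⟨genNear_of_bijective _ hx hbij, fun ⟨V, e, hxV, he⟩ => ?_⟩
  set φ := (Scheme.Modules.restrictAdjunction g).unit.app M
  refine ⟨V ⊓ g.opensRange, φ.app _ (mres M inf_le_left e), ⟨hxV, hx⟩, fun T hT => ?_⟩
  have h2 : (fun c : Γ(Z, T) => c • mres ((Scheme.Modules.pushforward g).obj (M.restrict g)) hT (φ.app _ (mres M inf_le_left e))) =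
      (φ.app T : Γ(M, T) → _) ∘ fun c : Γ(Z, T) => c • mres M hT (mres M inf_le_left e) := by
    funext c
    rw [Function.comp_apply, Scheme.Modules.Hom.app_smul]
    congr 1
    exact (congr($(φ.mapPresheaf.naturality (homOfLE hT).op) (mres M inf_le_left e))).symm
  rw [h2]
  exact (hbij T (hT.trans inf_le_right)).comp ((he.restrict inf_le_left) T hT)

theorem isInvertible_restrict {M : Z.Modules} (h : PicF.IsInvertible M) : PicF.IsInvertible (M.restrict g) :=
  isInvertible_iff.2 fun u => genNear_of_push g ((genNear_unit_iff g M ⟨u, rfl⟩).2 (isInvertible_iff.1 h _))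

end Gen

end GrothLib.ParaPair
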