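import Groth.Agent.Lib.ParaPair.Pair
import Groth.Agent.Lib.FlatBC.Push
import Groth.Agent.Lib.FTDesc.LocFree
import Groth.Agent.Lib.Euler.Coh
import Groth.Agent.Lib.RelProjK.Local

/-! # Parafactorial pairs descend along flat surjections -/

set_option autoImplicit false
set_option linter.all false
set_option backward.isDefEq.respectTransparency false
set_option maxHeartbeats 1000000

universe u

open CategoryTheory CategoryTheory.Limits AlgebraicGeometry Opposite TopologicalSpace GrothLib.InvExt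
open scoped TensorProduct

namespace GrothLib.ParaPair

/-- Bijectivity of a linear map can be tested after flat base changes meeting every maximal ideal. -/
theorem bijective_of_flat_family {A : Type u} [CommRing A] {M N : Type u} [AddCommGroup M] [AddCommGroup N]
    [Module A M] [Module A N] (r : M →ₗ[A] N)
    (h : ∀ m : Ideal A, m.IsMaximal → ∃ (B : Type u) (_ : CommRing B) (_ : Algebra A B),
      Module.Flat A B ∧ (∃ q : Ideal B, q.IsPrime ∧ q.comap (algebraMap A B) = m) ∧
      Function.Bijective (r.lTensor B)) : Function.Bijective r := by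
  have key : ∀ (L : Type u) [AddCommGroup L] [Module A L],
      (∀ (B : Type u) [CommRing B] [Algebra A B] [Module.Flat A B], Function.Bijective (r.lTensor B) →
        Subsingleton (B ⊗[A] L)) → Subsingleton L := by
    intro L _ _ hL
    refine subsingleton_of_forall_eq (0 : L) fun x => ?_
    by_contra hx
    let I : Ideal A := LinearMap.ker (LinearMap.toSpanSingleton A L x)
    have hI : I ≠ ⊤ := fun e => hx (by
      have : (1 : A) ∈ I := e ▸ trivial
      simpa [I] using this)
    obtain ⟨m, hm, hIm⟩ := Ideal.exists_le_maximal I hI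
    obtain ⟨B, _, _, hflat, ⟨q, hq, hqm⟩, hbij⟩ := h m hm
    haveI := hflat
    haveI := hL B hbij
    let φ : (A ⧸ I) →ₗ[A] L := Submodule.liftQ I (LinearMap.toSpanSingleton A L x) le_rfl
    have hφ : Function.Injective φ := LinearMap.ker_eq_bot.1 (Submodule.ker_liftQ_eq_bot' _ _ rfl)
    have hφ' : Function.Injective (φ.lTensor B) := Module.Flat.lTensor_preserves_injective_linearMap φ hφ
    haveI : Subsingleton (B ⊗[A] (A ⧸ I)) := hφ'.subsingleton
    haveI : Subsingleton (B ⧸ I.map (algebraMap A B)) :=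
      ((Algebra.TensorProduct.quotIdealMapEquivTensorQuot B I).toEquiv).subsingleton
    have htop : I.map (algebraMap A B) = ⊤ := Ideal.Quotient.subsingleton_iff.1 inferInstance
    have hle : I.map (algebraMap A B) ≤ q := Ideal.map_le_iff_le_comap.2 (hqm.symm ▸ hIm)
    exact hq.ne_top (eq_top_iff.2 (htop ▸ hle))
  constructor
  · have : Subsingleton (LinearMap.ker r) := key _ fun B _ _ _ hB => by
      refine subsingleton_of_forall_eq 0 fun z => ?_
      refine Module.Flat.lTensor_preserves_injective_linearMap (LinearMap.ker r).subtype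
        Subtype.val_injective (hB.1 ?_)
      rw [map_zero, map_zero, ← LinearMap.lTensor_comp_apply, LinearMap.comp_ker_subtype, LinearMap.lTensor_zero]
      rfl
    exact LinearMap.ker_eq_bot.1 (Submodule.subsingleton_iff_eq_bot.1 this)
  · have : Subsingleton (N ⧸ LinearMap.range r) := key _ fun B _ _ _ hB => by
      refine subsingleton_of_forall_eq 0 fun z => ?_
      obtain ⟨y, rfl⟩ := LinearMap.lTensor_surjective B (LinearMap.range r).mkQ_surjective z
      obtain ⟨w, rfl⟩ := hB.2 y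
      rw [← LinearMap.lTensor_comp_apply, LinearMap.range_mkQ_comp, LinearMap.lTensor_zero]
      rfl
    exact LinearMap.range_eq_top.1 (Submodule.Quotient.subsingleton_iff.1 this)

/-- Extension of functions only has to be checked on affine opens. -/
theorem secBij_of_affine {X : Scheme.{u}} {O : X.Opens}
    (h : ∀ W : X.Opens, IsAffineOpen W → Function.Bijective (fres X (inf_le_left : W ⊓ O ≤ W))) : SecBij O := by
  have hc : ∀ T : X.Opens, T ≤ ⨆ A : {A : X.Opens // IsAffineOpen A ∧ A ≤ T}, A.1 := fun T x hx => by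
    obtain ⟨_, ⟨A, hA, rfl⟩, hxA, hAT⟩ := X.isBasis_affineOpens.exists_subset_of_mem_open
      (show x ∈ (T : Set X) from hx) T.2
    exact Opens.mem_iSup.2 ⟨⟨A, hA, hAT⟩, hxA⟩
  have hinj : ∀ T : X.Opens, Function.Injective (fres X (inf_le_left : T ⊓ O ≤ T)) := by
    intro T a b hab
    refine X.sheaf.eq_of_locally_eq' (fun A : {A : X.Opens // IsAffineOpen A ∧ A ≤ T} => A.1) T
      (fun A => homOfLE A.2.2) (hc T) a b fun A => (h A.1 A.2.1).1 ?_
    have := congrArg (fres X (inf_le_inf_right O A.2.2)) hab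
    simp only [fres_fres] at this
    show fres X _ (fres X _ a) = fres X _ (fres X _ b)
    simp only [fres_fres]
    exact this
  intro W
  refine ⟨hinj W, fun s => ?_⟩
  choose m hm using fun A : {A : X.Opens // IsAffineOpen A ∧ A ≤ W} =>
    (h A.1 A.2.1).2 (fres X (inf_le_inf_right O A.2.2) s)
  obtain ⟨t, ht, -⟩ := X.sheaf.existsUnique_gluing' (fun A : {A : X.Opens // IsAffineOpen A ∧ A ≤ W} => A.1) W
    (fun A => homOfLE A.2.2) (hc W) m (fun A A' => by
      refine hinj _ ?_
      have h1 := congrArg (fres X (inf_le_inf_right O inf_le_left : A.1 ⊓ A'.1 ⊓ O ≤ A.1 ⊓ O)) (hm A)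
      have h2 := congrArg (fres X (inf_le_inf_right O inf_le_right : A.1 ⊓ A'.1 ⊓ O ≤ A'.1 ⊓ O)) (hm A')
      simp only [fres_fres] at h1 h2
      exact (fres_fres _ _ (m A)).trans (h1.trans (h2.symm.trans (fres_fres _ _ (m A')).symm)))
  refine ⟨t, X.sheaf.eq_of_locally_eq' (fun A : {A : X.Opens // IsAffineOpen A ∧ A ≤ W} => A.1 ⊓ O) (W ⊓ O)
    (fun A => homOfLE (inf_le_inf_right O A.2.2)) (fun y hy => ?_) _ _ fun A => ?_⟩
  · obtain ⟨A, hA⟩ := Opens.mem_iSup.1 (hc W hy.1)
    exact Opens.mem_iSup.2 ⟨A, hA, hy.2⟩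
  · have h1 : fres X A.2.2 t = m A := ht A
    have h2 := hm A
    rw [← h1, fres_fres] at h2
    show fres X _ (fres X _ t) = fres X _ s
    rw [fres_fres]
    exact h2

/-- A qcqs open has compact traces on compact opens. -/
theorem isCompact_inf {X : Scheme.{u}} (O : X.Opens) [QuasiCompact O.ι] {W : X.Opens} (hW : IsCompact (W : Set X)) :
    IsCompact ((W ⊓ O : X.Opens) : Set X) := by
  have h1 := O.ι.isCompact_preimage (U := W) hW
  have h2 := h1.image O.ι.continuous
  rw [Scheme.Hom.coe_preimage, Set.image_preimage_eq_inter_range, Scheme.Opens.range_ι] at h2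
  exact h2

/-- Extension of functions descends along a flat surjection. -/
theorem secBij_of_flat_descent {X X' : Scheme.{u}} (f : X' ⟶ X) [Flat f] [Surjective f] (O : X.Opens)
    [QuasiCompact O.ι] (h : SecBij (f ⁻¹ᵁ O)) : SecBij O := by
  refine secBij_of_affine fun W hW => ?_
  have H : IsPullback f (𝟙 X') (𝟙 X) f := IsPullback.of_vert_isIso ⟨by simp⟩
  let F := Coh.structureModule X
  haveI hFq : F.IsQuasicoherent := (Euler.isCoh_of_isFinLocFree
    (Euler.isFinLocFree_of_isInvertible (isInvertible_structure X))).1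
  have hM : PicF.IsInvertible ((Scheme.Modules.pullback f).obj F) :=
    RelProjK.isInvertible_pullback f (isInvertible_structure X)
  let r := FlatBC.resM (𝟙 X) F W (inf_le_left : W ⊓ O ≤ W) (le_refl W)
  suffices hr : Function.Bijective r from hr
  refine bijective_of_flat_family r fun m hm => ?_
  have hmp := hm.isPrime
  let x : X := hW.fromSpec ⟨m, hmp⟩
  have hxW : x ∈ W := by
    rw [← SetLike.mem_coe, ← hW.range_fromSpec]; exact ⟨_, rfl⟩
  obtain ⟨x', hx'⟩ := f.surjective x
  obtain ⟨_, ⟨W', hW', rfl⟩, hxW', hle⟩ := X'.isBasis_affineOpens.exists_subset_of_mem_open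
    (show x' ∈ ((f ⁻¹ᵁ W : X'.Opens) : Set X') from by show f x' ∈ W; rw [hx']; exact hxW) (f ⁻¹ᵁ W).2
  have hflat : (f.appLE W W' hle).hom.Flat := f.flat_appLE hW hW' hle
  letI : Algebra Γ(X, W) Γ(X', W') := (f.appLE W W' hle).hom.toAlgebra
  refine ⟨Γ(X', W'), inferInstance, inferInstance, hflat, ⟨(hW'.primeIdealOf ⟨x', hxW'⟩).asIdeal,
    (hW'.primeIdealOf ⟨x', hxW'⟩).isPrime, ?_⟩, ?_⟩
  · have e1 := congrArg PrimeSpectrum.asIdeal (IsAffineOpen.comap_primeIdealOf_appLE W hW W' hW' hle hxW')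
    refine e1.trans ?_
    refine (congrArg PrimeSpectrum.asIdeal ?_ : _ = (⟨m, hmp⟩ : PrimeSpectrum Γ(X, W)).asIdeal)
    refine hW.fromSpec.isOpenEmbedding.injective ?_
    exact (hW.fromSpec_primeIdealOf _).trans hx'
  · let G' := (Scheme.Modules.pullback f).obj F
    letI : ∀ U, Module Γ(X, W) (FlatBC.secM (𝟙 X') G' W' (FlatBC.upU f (𝟙 X') W' U) inf_le_right) := fun _ =>
      Module.compHom _ (f.appLE W W' hle).hom
    haveI : ∀ U, IsScalarTower Γ(X, W) Γ(X', W') (FlatBC.secM (𝟙 X') G' W' (FlatBC.upU f (𝟙 X') W' U) inf_le_right) :=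
      fun _ => IsScalarTower.of_algebraMap_smul fun _ _ => rfl
    have hqs : IsQuasiSeparated (((𝟙 X : X ⟶ X) ⁻¹ᵁ W : X.Opens) : Set X) := hW.isQuasiSeparated
    obtain ⟨i1, s1⟩ := FlatBC.bij_of_isCompact H F hle hW hW' hflat hqs hW.isCompact (le_refl W)
    obtain ⟨i2, s2⟩ := FlatBC.bij_of_isCompact H F hle hW hW' hflat hqs (isCompact_inf O hW.isCompact)
      (inf_le_left : W ⊓ O ≤ W)
    unfold FlatBC.Inj at i1 i2
    unfold FlatBC.Surj at s1 s2
    have hle' : FlatBC.upU f (𝟙 X') W' (W ⊓ O) ≤ FlatBC.upU f (𝟙 X') W' W :=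
      inf_le_inf_right _ (f.preimage_mono inf_le_left)
    let s := FlatBC.resM (𝟙 X') G' W' hle' inf_le_right
    have e1 : FlatBC.upU f (𝟙 X') W' W = W' := le_antisymm inf_le_right (le_inf hle le_rfl)
    have e2 : FlatBC.upU f (𝟙 X') W' (W ⊓ O) = W' ⊓ f ⁻¹ᵁ O := by
      ext y
      exact ⟨fun ⟨⟨_, h2⟩, h3⟩ => ⟨h3, h2⟩, fun ⟨h1, h2⟩ => ⟨⟨hle h1, h2⟩, h1⟩⟩
    have key0 : ∀ (T T' : X'.Opens) (hh : T' ≤ T), T = W' → T' = W' ⊓ f ⁻¹ᵁ O →
        Function.Bijective (mres G' hh) := by
      rintro _ _ hh rfl rfl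
      exact h.mres_bijective _ hM _
    have hs : Function.Bijective s := key0 _ _ hle' e1 e2
    have hnat := FlatBC.lift_natural (FlatBC.pullHom H F hle (le_refl W))
      (FlatBC.pullHom H F hle (inf_le_left : W ⊓ O ≤ W)) r s
      (fun m => FlatBC.pullHom_res H F hle inf_le_left le_rfl m) (B := Γ(X', W'))
    rw [← LinearMap.baseChange_eq_ltensor (A := Γ(X', W'))]
    refine (Function.Bijective.of_comp_iff' (show Function.Bijective
      ((FlatBC.pullHom H F hle (inf_le_left : W ⊓ O ≤ W)).liftBaseChange Γ(X', W')) from ⟨i2, s2⟩) _).1 ?_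
    rw [← show s ∘ _ = (_ ∘ r.baseChange Γ(X', W')) from funext hnat]
    exact hs.comp ⟨i1, s1⟩

/-- Invertibility descends along quasi-compact flat surjections. -/
theorem isInvertible_of_pullback {X Y : Scheme.{u}} (g : X ⟶ Y) [Flat g] [Surjective g] [QuasiCompact g]
    (M : Y.Modules) [M.IsQuasicoherent] (h : PicF.IsInvertible ((Scheme.Modules.pullback g).obj M)) :
    PicF.IsInvertible M := by
  have hL := Euler.isFinLocFree_of_isInvertible h
  have hM : FlatMod.IsFinLocFree M :=
    FTDesc.isFinLocFree_of_pullback g M hL (Euler.isCoh_of_isFinLocFree hL).2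
  refine isInvertible_of_gens fun y => ?_
  obtain ⟨U, n, e, hyU, he⟩ := FinCov.exists_frame_nhd hM y
  obtain ⟨x, rfl⟩ := g.surjective y
  obtain ⟨V, t, hxV, ht⟩ := exists_gen_nhd h x
  haveI : Module.Free (X.presheaf.stalk x) (((Scheme.Modules.pullback g).obj M).presheaf.stalk x) :=
    Module.Free.of_equiv (LinearEquiv.ofBijective _
      (Ref1.stalk_of_isFrame ((isGen_iff_isFrame (fun _ : Fin 1 => t)).mpr ht) x hxV))
  haveI : Module.Finite (Y.presheaf.stalk (g x)) (M.presheaf.stalk (g x)) :=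
    Module.Finite.equiv (LinearEquiv.ofBijective _ (Ref1.stalk_of_isFrame he (g x) hyU))
  have h1 := (FTDesc.stalk_free_of_pullback g M x).2
  rw [← (LinearEquiv.ofBijective _
      (Ref1.stalk_of_isFrame ((isGen_iff_isFrame (fun _ : Fin 1 => t)).mpr ht) x hxV)).finrank_eq,
    ← (LinearEquiv.ofBijective _ (Ref1.stalk_of_isFrame he (g x) hyU)).finrank_eq,
    Module.finrank_pi, Module.finrank_pi, Fintype.card_fin, Fintype.card_fin] at h1
  subst h1
  exact ⟨U, e 0, hyU, (isGen_iff_isFrame e).mp he⟩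

/-- Invertibility of direct images descends along a quasi-compact flat surjection. -/
theorem pushInv_of_flat_descent {X X' : Scheme.{u}} (f : X' ⟶ X) [QuasiCompact f] [Flat f] [Surjective f]
    (O : X.Opens) [QuasiCompact O.ι] (h : PushInv (f ⁻¹ᵁ O)) : PushInv O := by
  intro U g _ L hL V hr x hx
  let j : U ⟶ (V : Scheme.{u}) := IsOpenImmersion.lift V.ι g (by
    rw [Scheme.Opens.range_ι]
    intro z hz
    have : z ∈ (V ⊓ O : X.Opens) := hr ▸ hz
    exact this.1)
  have hj : j ≫ V.ι = g := IsOpenImmersion.lift_fac _ _ _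
  haveI : IsOpenImmersion (j ≫ V.ι) := hj ▸ inferInstanceAs (IsOpenImmersion g)
  haveI : IsOpenImmersion j := IsOpenImmersion.of_comp j V.ι
  have hjr : j.opensRange = V.ι ⁻¹ᵁ O := by
    have h1 : (j ≫ V.ι).opensRange = V ⊓ O := by
      ext z; simp only [hj, ← hr]
    rw [Scheme.Hom.opensRange_comp] at h1
    rw [← V.ι.preimage_image_eq j.opensRange, h1]
    ext ⟨z, hz⟩
    exact ⟨fun h2 => h2.2, fun h2 => ⟨hz, h2⟩⟩
  haveI : QuasiCompact j := by
    let e := IsOpenImmersion.isoOfRangeEq j (V.ι ⁻¹ᵁ O).ι (by rw [Scheme.Opens.range_ι, ← hjr]; rfl)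
    rw [← IsOpenImmersion.isoOfRangeEq_hom_fac j (V.ι ⁻¹ᵁ O).ι (by rw [Scheme.Opens.range_ι, ← hjr]; rfl)]
    haveI : QuasiCompact (V.ι ⁻¹ᵁ O).ι :=
      MorphismProperty.of_isPullback (isPullback_morphismRestrict V.ι O) ‹QuasiCompact O.ι›
    infer_instance
  haveI : L.IsQuasicoherent := (Euler.isCoh_of_isFinLocFree (Euler.isFinLocFree_of_isInvertible hL)).1
  let M := (Scheme.Modules.pushforward j).obj L
  haveI : M.IsQuasicoherent := QCoh.isQuasicoherent_pushforward j L
  suffices hM : PicF.IsInvertible M by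
    refine genNear_of_iso ?_ (genNear_push V.ι (u := ⟨x, hx⟩) (isInvertible_iff.1 hM _))
    exact (Scheme.Modules.pushforwardCongr hj).symm.app L ≪≫ ((Scheme.Modules.pushforwardComp j V.ι).symm.app L)
  haveI : Flat (f ∣_ V) := MorphismProperty.of_isPullback (isPullback_morphismRestrict f V).flip ‹Flat f›
  haveI : Surjective (f ∣_ V) := MorphismProperty.of_isPullback (isPullback_morphismRestrict f V).flip ‹Surjective f›
  haveI : QuasiCompact (f ∣_ V) := MorphismProperty.of_isPullback (isPullback_morphismRestrict f V).flip ‹QuasiCompact f›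
  refine isInvertible_of_pullback (f ∣_ V) M ?_
  have H : IsPullback (pullback.fst j (f ∣_ V)) (pullback.snd j (f ∣_ V)) j (f ∣_ V) := IsPullback.of_hasPullback _ _
  haveI := FlatBC.isIso_bcMap H L
  refine isInvertible_of_iso (asIso (AffBC.bcMap H L)) (isInvertible_iff.2 fun z => ?_)
  let j' := pullback.snd j (f ∣_ V)
  let L' := (Scheme.Modules.pullback (pullback.fst j (f ∣_ V))).obj L
  have hL' : PicF.IsInvertible L' := RelProjK.isInvertible_pullback _ hL
  refine genNear_of_push (f ⁻¹ᵁ V).ι (genNear_of_iso ((Scheme.Modules.pushforwardComp j' (f ⁻¹ᵁ V).ι).app L') ?_)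
  refine h _ (j' ≫ (f ⁻¹ᵁ V).ι) L' hL' (f ⁻¹ᵁ V) ?_ _ z.2
  rw [Scheme.Hom.opensRange_comp, Scheme.Hom.opensRange_pullbackSnd, hjr]
  ext w
  constructor
  · rintro ⟨⟨w', hw'⟩, h2, rfl⟩
    refine ⟨hw', ?_⟩
    have h2' : V.ι ((f ∣_ V) ⟨w', hw'⟩) ∈ O := h2
    rw [← Scheme.Hom.comp_apply, morphismRestrict_ι] at h2'
    exact h2'
  · rintro ⟨h1, h2⟩
    refine ⟨⟨w, h1⟩, ?_, rfl⟩
    show V.ι ((f ∣_ V) ⟨w, h1⟩) ∈ O
    rw [← Scheme.Hom.comp_apply, morphismRestrict_ι]
    exact h2

/-- Parafactoriality of pairs descends along quasi-compact flat surjections. -/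
theorem isParafactorialPair_of_flat_descent {X X' : Scheme.{u}} (f : X' ⟶ X) [QuasiCompact f] [Flat f]
    [Surjective f] (Y : Closeds ↥X) [QuasiCompact (show X.Opens from Y.compl).ι]
    (h : ParaF.IsParafactorialPair X' (ParaF.closedsPreimage f Y)) : ParaF.IsParafactorialPair X Y := by
  obtain ⟨h1, h2⟩ := isParafactorialPair_iff.1 h
  exact isParafactorialPair_of (secBij_of_flat_descent f Y.compl h1) (pushInv_of_flat_descent f Y.compl h2)

end GrothLib.ParaPair
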