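import Groth.Agent.Lib.ParaPair.Pair
import Groth.Agent.Lib.InvExt.UFD
import Groth.Prelude.Def_FEt
import Mathlib.RingTheory.Ideal.KrullsHeightTheorem

/-! Parafactorial local rings. -/

universe u

open CategoryTheory Limits AlgebraicGeometry Opposite TopologicalSpace GrothLib.InvExt

namespace GrothLib.ParaPair

variable (A : Type u) [CommRing A] [IsLocalRing A]

/-- The closed point as a closed subset. -/
noncomputable abbrev closedPt : Closeds (Spec (CommRingCat.of A)) :=
  ⟨{IsLocalRing.closedPoint A}, IsLocalRing.isClosed_singleton_closedPoint A⟩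

theorem eq_top_of_closedPoint_mem {V : (Spec (CommRingCat.of A)).Opens} (h : IsLocalRing.closedPoint A ∈ V) :
    V = ⊤ := by
  refine eq_top_iff.2 fun x _ => ?_
  exact (IsLocalRing.specializes_closedPoint (R := A) x).mem_open V.isOpen h

theorem secBij_closedPt_iff :
    SecBij (closedPt A).compl ↔ Function.Bijective
      ((Spec (CommRingCat.of A)).presheaf.map (homOfLE (le_top : FEt.puncturedSpec A ≤ ⊤)).op) := by
  have hO : (closedPt A).compl = FEt.puncturedSpec A := rfl
  rw [hO]
  constructor
  · intro h
    exact (bijective_fres_congr _ _ (top_inf_eq _)).1 (h ⊤)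
  · intro h V
    by_cases hV : IsLocalRing.closedPoint A ∈ V
    · obtain rfl := eq_top_of_closedPoint_mem A hV
      exact (bijective_fres_congr _ _ (top_inf_eq _)).2 h
    · refine bijective_fres_self _ (inf_eq_left.2 fun x hx => ?_)
      exact fun e => hV (e ▸ hx)

theorem isParafactorialLocalRing_iff : ParaF.IsParafactorialLocalRing A ↔
      (Function.Bijective ((Spec (CommRingCat.of A)).presheaf.map
          (homOfLE (le_top : FEt.puncturedSpec A ≤ ⊤)).op) ∧
        ParaF.PicTrivial (FEt.puncturedSpec A : Scheme.{u})) := by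
  have hO : (closedPt A).compl = FEt.puncturedSpec A := rfl
  rw [ParaF.IsParafactorialLocalRing, isParafactorialPair_iff, ← secBij_closedPt_iff A, hO]
  refine and_congr_right fun hA => ⟨fun hB L hL => ?_, fun hP U g _ L hL V hr x hx => ?_⟩
  · let j := (FEt.puncturedSpec A).ι
    obtain ⟨V, e, hxV, he⟩ := hB _ j L hL ⊤ (by rw [Scheme.Opens.opensRange_ι, top_inf_eq]) (IsLocalRing.closedPoint A) trivial
    obtain rfl := eq_top_of_closedPoint_mem A hxV
    obtain ⟨φ⟩ := exists_iso_of_gen (he.restrict (le_top : FEt.puncturedSpec A ≤ ⊤))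
    exact ⟨((Scheme.Modules.restrictFunctorAdjCounitIso j).app L).symm ≪≫ φ⟩
  · by_cases hxc : x = IsLocalRing.closedPoint A
    · subst hxc
      obtain rfl := eq_top_of_closedPoint_mem A hx
      rw [top_inf_eq] at hr
      let e := IsOpenImmersion.isoOfRangeEq g (FEt.puncturedSpec A).ι (by rw [Scheme.Opens.range_ι, ← hr]; rfl)
      have hfac : e.hom ≫ (FEt.puncturedSpec A).ι = g := IsOpenImmersion.isoOfRangeEq_hom_fac _ _ _
      obtain ⟨φ⟩ := hP _ (isInvertible_push_of_isIso e.hom hL)
      let j := (FEt.puncturedSpec A).ι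
      have hA' : SecBij j.opensRange := by rw [Scheme.Opens.opensRange_ι]; exact hA
      haveI := hA'.isIso_unit j (isInvertible_structure (Spec (CommRingCat.of A)))
      refine genNear_of_iso ?_ (isInvertible_iff.1 (isInvertible_structure (Spec (CommRingCat.of A))) _)
      exact (Scheme.Modules.pushforwardCongr hfac).symm.app L ≪≫
        (Scheme.Modules.pushforwardComp e.hom j).symm.app L ≪≫
        (Scheme.Modules.pushforward j).mapIso (φ ≪≫ (Scheme.Modules.restrictUnitIso j).symm) ≪≫
        (asIso ((Scheme.Modules.restrictAdjunction j).unit.app (Coh.structureModule _))).symm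
    · obtain ⟨y, rfl⟩ : x ∈ g.opensRange := by rw [hr]; exact ⟨hx, hxc⟩
      exact genNear_push g (isInvertible_iff.1 hL y)

omit [IsLocalRing A] in
/-- Functions on the punctured spectrum of a UFD of dimension at least two extend. -/
theorem bijective_punctured_aux {R : CommRingCat.{u}} [IsDomain R] [UniqueFactorizationMonoid R] [IsNoetherianRing R]
    [IsLocalRing R] (hdim : (2 : WithBot ℕ∞) ≤ ringKrullDim R) (P : (Spec R).Opens)
    (hP : ∀ q : Spec R, q ∈ P ↔ q ≠ IsLocalRing.closedPoint R) :
    Function.Bijective (fres (Spec R) (le_top : P ≤ ⊤)) := by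
  have hm : IsLocalRing.maximalIdeal R ≠ ⊥ := fun h => by
    have h1 : ringKrullDim R = 0 := by
      rw [← IsLocalRing.maximalIdeal_height_eq_ringKrullDim, h, Ideal.height_bot]; rfl
    rw [h1] at hdim
    exact absurd hdim (by decide)
  have hne : ((⊥ : PrimeSpectrum R) : Spec R) ∈ P := (hP _).2 fun e => hm (congrArg PrimeSpectrum.asIdeal e).symm
  haveI : Nonempty P := ⟨⟨(⊥ : PrimeSpectrum R), hne⟩⟩
  haveI : Nonempty (⊤ : (Spec R).Opens) := ⟨⟨(⊥ : PrimeSpectrum R), trivial⟩⟩
  have hcomp : ∀ t : Γ((Spec R), ⊤), (Spec R).germToFunctionField P (fres (Spec R) le_top t) = (Spec R).germToFunctionField ⊤ t := fun t =>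
    toK_fres (le_top : P ≤ ⊤) (⊥ : PrimeSpectrum R) hne t
  refine ⟨fun a b hab => (Spec R).germToFunctionField_injective ⊤ (by rw [← hcomp a, ← hcomp b]; exact congrArg _ hab), fun s => ?_⟩
  set c := (Spec R).germToFunctionField P s with hc
  have key : algebraMap R (Spec R).functionField (IsFractionRing.num R c) =
      c * algebraMap R (Spec R).functionField (IsFractionRing.den R c) := by
    have := IsFractionRing.mk'_num_den R c
    rw [IsLocalization.mk'_eq_iff_eq_mul] at this
    exact this
  have hden : IsUnit (IsFractionRing.den R c : R) := by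
    by_contra hnu
    obtain ⟨p, hp, hpd⟩ := WfDvdMonoid.exists_irreducible_factor hnu (nonZeroDivisors.ne_zero (IsFractionRing.den R c).2)
    replace hp : Prime p := UniqueFactorizationMonoid.irreducible_iff_prime.1 hp
    have hpP : primePt hp ∈ P := by
      rw [hP]
      intro e
      have e' : Ideal.span {p} = IsLocalRing.maximalIdeal R := congrArg PrimeSpectrum.asIdeal e
      have hpr : (IsLocalRing.maximalIdeal R).IsPrincipal := ⟨⟨p, e'.symm⟩⟩
      have h1 := Ideal.height_le_one_of_isPrincipal_of_mem_minimalPrimes (IsLocalRing.maximalIdeal R)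
        (IsLocalRing.maximalIdeal R) (by rw [Ideal.minimalPrimes_eq_subsingleton_self]; rfl)
      have h2 : (2 : WithBot ℕ∞) ≤ ((IsLocalRing.maximalIdeal R).height : WithBot ℕ∞) := by
        rw [IsLocalRing.maximalIdeal_height_eq_ringKrullDim]; exact hdim
      have h3 := h2.trans (WithBot.coe_le_coe.2 h1)
      exact absurd h3 (by decide)
    let S := (AlgebraicGeometry.Spec.structureSheaf R).presheaf.stalk (primePt hp)
    haveI : IsLocalization.AtPrime S (primePt hp).asIdeal := StructureSheaf.IsLocalization.to_stalk R (primePt hp)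
    let φ : S →+* (Spec R).functionField := algebraMap ((Spec R).presheaf.stalk (primePt hp)) (Spec R).functionField
    have hφ : ∀ r, φ (algebraMap R S r) = algebraMap R (Spec R).functionField r := algebraMap_stalk_comp (primePt hp)
    let u : S := (Spec R).presheaf.germ P (primePt hp) hpP s
    have hu : φ u = c := (Spec R).algebraMap_germ_eq_germToFunctionField hpP s
    obtain ⟨⟨a, b⟩, hab⟩ := IsLocalization.surj (primePt hp).asIdeal.primeCompl u
    have h1 := congrArg φ hab
    rw [map_mul, hφ, hφ, hu] at h1
    have h2 : IsFractionRing.num R c * (b : R) = a * (IsFractionRing.den R c : R) := by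
      apply IsFractionRing.injective R (Spec R).functionField
      rw [map_mul, map_mul, key, ← h1]; ring
    have h3 : p ∣ IsFractionRing.num R c :=
      (hp.dvd_or_dvd (h2 ▸ hpd.mul_left a : p ∣ IsFractionRing.num R c * (b : R))).resolve_right
        fun h => b.2 (Ideal.mem_span_singleton.2 h)
    exact hp.not_isUnit ((IsFractionRing.num_den_reduced R c) h3 hpd)
  let r : R := IsFractionRing.num R c * (hden.unit⁻¹ : Rˣ)
  refine ⟨(Scheme.ΓSpecIso R).inv r, (Spec R).germToFunctionField_injective P ?_⟩
  have hr : (Spec R).germToFunctionField ⊤ ((Scheme.ΓSpecIso R).inv r) = algebraMap R (Spec R).functionField r := rfl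
  refine ((hcomp _).trans hr).trans ?_
  rw [show r = IsFractionRing.num R c * (hden.unit⁻¹ : Rˣ) from rfl, map_mul, key, mul_assoc, ← map_mul,
    IsUnit.mul_val_inv, map_one, mul_one]

theorem bijective_punctured_of_ufd [IsDomain A] [UniqueFactorizationMonoid A] [IsNoetherianRing A]
    (hdim : (2 : WithBot ℕ∞) ≤ ringKrullDim A) :
    Function.Bijective ((Spec (CommRingCat.of A)).presheaf.map
      (homOfLE (le_top : FEt.puncturedSpec A ≤ ⊤)).op) :=
  haveI : IsDomain (CommRingCat.of A) := inferInstanceAs (IsDomain A)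
  haveI : UniqueFactorizationMonoid (CommRingCat.of A) := inferInstanceAs (UniqueFactorizationMonoid A)
  bijective_punctured_aux (R := CommRingCat.of A) hdim _ fun _ => Iff.rfl

end GrothLib.ParaPair
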