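import Groth.Agent.Lib.ParaPair.Basic

/-! Parafactorial pairs in terms of two conditions on `X`. -/

universe u

open CategoryTheory Limits AlgebraicGeometry Opposite TopologicalSpace GrothLib.InvExt

namespace GrothLib.ParaPair

variable {X : Scheme.{u}} (O : X.Opens)

/-- Functions extend uniquely across the complement of `O`. -/
def SecBij : Prop := ∀ W : X.Opens, Function.Bijective (fres X (inf_le_left : W ⊓ O ≤ W))

/-- Direct images of invertible modules across the complement of `O` are invertible. -/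
def PushInv : Prop :=
  ∀ (U : Scheme.{u}) (g : U ⟶ X) [IsOpenImmersion g] (L : U.Modules), PicF.IsInvertible L →
    ∀ V : X.Opens, g.opensRange = V ⊓ O → ∀ x ∈ V, GenNear ((Scheme.Modules.pushforward g).obj L) x

theorem bijective_fres_congr {W T T' : X.Opens} (h : T ≤ W) (h' : T' ≤ W) (e : T = T') :
    Function.Bijective (fres X h) ↔ Function.Bijective (fres X h') := by subst e; rfl

theorem bijective_mres_congr (M : X.Modules) {W T T' : X.Opens} (h : T ≤ W) (h' : T' ≤ W) (e : T = T') :
    Function.Bijective (mres M h) ↔ Function.Bijective (mres M h') := by subst e; rfl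

theorem bijective_fres_self {W T : X.Opens} (h : T ≤ W) (e : T = W) : Function.Bijective (fres X h) := by
  subst e; exact ⟨fun a b hab => by simpa [fres_self] using hab, fun a => ⟨a, fres_self a⟩⟩

theorem SecBij.mres_bijective (h : SecBij O) {M : X.Modules} (hM : PicF.IsInvertible M) (W : X.Opens) :
    Function.Bijective (mres M (inf_le_left : W ⊓ O ≤ W)) := by
  choose V e hxV he using fun x => exists_gen_nhd hM x
  have hc : W ≤ ⨆ x, W ⊓ V x := fun y hy => Opens.mem_iSup.2 ⟨y, hy, hxV y⟩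
  have key : ∀ (x : X) (T : X.Opens), T ≤ V x → Function.Bijective (mres M (inf_le_left : T ⊓ O ≤ T)) := by
    intro x T hT
    refine ((he x T hT).of_comp_iff (mres M (inf_le_left : T ⊓ O ≤ T))).1 ?_
    have : (mres M (inf_le_left : T ⊓ O ≤ T)) ∘ (fun c : Γ(X, T) => c • mres M hT (e x)) =
        (fun c : Γ(X, (T ⊓ O : X.Opens)) => c • mres M (inf_le_left.trans hT) (e x)) ∘ fres X inf_le_left := by
      funext c; simp only [Function.comp_apply, mres_smul, mres_mres]
    rw [this]
    exact (he x _ _).comp (h T)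
  have hinj : ∀ T : X.Opens, Function.Injective (mres M (inf_le_left : T ⊓ O ≤ T)) := by
    intro T a b hab
    refine TopCat.Sheaf.eq_of_locally_eq' ⟨M.presheaf, M.isSheaf⟩ (fun x => T ⊓ V x) T (fun x => homOfLE inf_le_left)
      (fun y hy => Opens.mem_iSup.2 ⟨y, hy, hxV y⟩) a b fun x => ?_
    refine (key x (T ⊓ V x) inf_le_right).1 ?_
    have := congrArg (mres M (inf_le_inf_right O inf_le_left : T ⊓ V x ⊓ O ≤ T ⊓ O)) hab
    simp only [mres_mres] at this
    simp only [mres_mres]
    exact this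
  refine ⟨hinj W, fun s => ?_⟩
  choose m hm using fun x => (key x (W ⊓ V x) inf_le_right).2 (mres M (inf_le_inf_right O inf_le_left) s)
  obtain ⟨t, ht, -⟩ := TopCat.Sheaf.existsUnique_gluing' ⟨M.presheaf, M.isSheaf⟩ (fun x => W ⊓ V x) W
    (fun x => homOfLE inf_le_left) hc m (fun x y => by
      refine hinj _ ?_
      have h1 := congrArg (mres M (inf_le_inf_right O inf_le_left : W ⊓ V x ⊓ (W ⊓ V y) ⊓ O ≤ W ⊓ V x ⊓ O)) (hm x)
      have h2 := congrArg (mres M (inf_le_inf_right O inf_le_right : W ⊓ V x ⊓ (W ⊓ V y) ⊓ O ≤ W ⊓ V y ⊓ O)) (hm y)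
      simp only [mres_mres] at h1 h2
      exact (mres_mres M _ _ (m x)).trans (h1.trans (h2.symm.trans (mres_mres M _ _ (m y)).symm)))
  refine ⟨t, TopCat.Sheaf.eq_of_locally_eq' ⟨M.presheaf, M.isSheaf⟩ (fun x => W ⊓ V x ⊓ O) (W ⊓ O)
    (fun x => homOfLE (inf_le_inf_right O inf_le_left)) (fun y hy => Opens.mem_iSup.2 ⟨y, ⟨hy.1, hxV y⟩, hy.2⟩) _ _ fun x => ?_⟩
  have h1 : mres M (inf_le_left : W ⊓ V x ≤ W) t = m x := ht x
  change mres M _ (mres M _ t) = mres M _ s
  rw [← hm x, ← h1, mres_mres, mres_mres]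

theorem SecBij.isIso_unit {Z U : Scheme.{u}} (j : U ⟶ Z) [IsOpenImmersion j] (h : SecBij j.opensRange)
    {M : Z.Modules} (hM : PicF.IsInvertible M) :
    IsIso ((Scheme.Modules.restrictAdjunction j).unit.app M) := by
  rw [Scheme.Modules.Hom.isIso_iff_isIso_app]
  intro W
  rw [ConcreteCategory.isIso_iff_bijective, Scheme.Modules.restrictAdjunction_unit_app_app]
  exact (bijective_mres_congr M _ _ (by rw [Scheme.Hom.image_preimage_eq_opensRange_inf, inf_comm])).2
    (h.mres_bijective _ hM W)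

theorem SecBij.hom_bijective {Z U : Scheme.{u}} (j : U ⟶ Z) [IsOpenImmersion j] (h : SecBij j.opensRange)
    (L : Z.Modules) {L' : Z.Modules} (hL' : PicF.IsInvertible L') :
    Function.Bijective (fun φ : L ⟶ L' => (Scheme.Modules.restrictFunctor j).map φ) := by
  haveI := h.isIso_unit j hL'
  let adj := Scheme.Modules.restrictAdjunction j
  refine ((adj.homEquiv L (L'.restrict j)).bijective.of_comp_iff' _).1 ?_
  have : ((adj.homEquiv L (L'.restrict j)) ∘ fun φ : L ⟶ L' => (Scheme.Modules.restrictFunctor j).map φ) =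
      fun φ : L ⟶ L' => φ ≫ adj.unit.app L' := by
    funext φ
    rw [Function.comp_apply, Adjunction.homEquiv_unit]
    exact (adj.unit.naturality φ).symm
  rw [this]
  exact ⟨fun a b hab => (cancel_mono (adj.unit.app L')).1 hab, fun ψ => ⟨ψ ≫ inv (adj.unit.app L'), by simp⟩⟩

/-- Evaluation at the global sections identifies homomorphisms out of the structure sheaf. -/
theorem eval_top_bijective {Z : Scheme.{u}} (M : Z.Modules) :
    Function.Bijective (fun f : Coh.structureModule Z ⟶ M => f.app ⊤ (1 : Γ(Z, ⊤))) := by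
  have hev : Function.Bijective (fun s : PresheafOfModules.sections M.val => s.val (op (⊤ : Z.Opens))) := by
    refine ⟨fun s t hst => Subtype.ext (funext fun W => ?_), fun m => ?_⟩
    · have hs := s.2 (homOfLE (le_top : W.unop ≤ ⊤)).op
      have ht := t.2 (homOfLE (le_top : W.unop ≤ ⊤)).op
      exact hs.symm.trans ((congrArg _ hst).trans ht)
    · refine ⟨PresheafOfModules.sectionsMk (fun W => mres M (le_top : W.unop ≤ ⊤) m) (fun W W' i => ?_), ?_⟩
      · exact mres_mres M _ (leOfHom i.unop) m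
      · exact mres_self M m
  exact hev.comp (SheafOfModules.unitHomEquiv M).bijective

theorem bijective_of_hom_bijective {Z U : Scheme.{u}} (j : U ⟶ Z) [IsOpenImmersion j]
    (h : Function.Bijective (fun φ : Coh.structureModule Z ⟶ Coh.structureModule Z => (Scheme.Modules.restrictFunctor j).map φ)) :
    Function.Bijective (fres Z (le_top : j.opensRange ≤ ⊤)) := by
  let adj := Scheme.Modules.restrictAdjunction j
  set M := Coh.structureModule Z
  have h1 : Function.Bijective (fun φ : M ⟶ M => φ ≫ adj.unit.app M) := by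
    have : ((adj.homEquiv M (M.restrict j)) ∘ fun φ : M ⟶ M => (Scheme.Modules.restrictFunctor j).map φ) =
        fun φ : M ⟶ M => φ ≫ adj.unit.app M := by
      funext φ
      rw [Function.comp_apply, Adjunction.homEquiv_unit]
      exact (adj.unit.naturality φ).symm
    rw [← this]
    exact (adj.homEquiv M _).bijective.comp h
  have h2 : Function.Bijective ((adj.unit.app M).app ⊤) := by
    refine ((eval_top_bijective M).of_comp_iff _).1 ?_
    exact (eval_top_bijective _).comp h1
  rw [Scheme.Modules.restrictAdjunction_unit_app_app] at h2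
  exact (bijective_fres_congr _ _ (by simp [Scheme.Hom.image_preimage_eq_opensRange_inf])).1 h2

theorem bijective_fres_iff {Z : Scheme.{u}} (ι : Z ⟶ X) [IsOpenImmersion ι] {T T' : X.Opens} (hT : T' ≤ T)
    (hr : T ≤ ι.opensRange) :
    Function.Bijective (fres Z (ι.preimage_mono hT)) ↔ Function.Bijective (fres X hT) := by
  have hsq : (fres Z (ι.preimage_mono hT)) ∘ (ι.app T).hom = (ι.app T').hom ∘ fres X hT := by
    funext a
    exact (congr($(ι.naturality (homOfLE hT).op) a)).symm
  rw [← (app_bijective ι hr).of_comp_iff (fres Z _), hsq,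
    (app_bijective ι (hT.trans hr)).of_comp_iff']

theorem SecBij.preimage (h : SecBij O) {Z : Scheme.{u}} (ι : Z ⟶ X) [IsOpenImmersion ι] : SecBij (ι ⁻¹ᵁ O) := by
  intro W
  obtain ⟨T, -, hT, rfl⟩ := exists_eq_preimage ι (V := ⊤) (T := W) (fun _ _ => trivial)
  exact (bijective_fres_iff ι (inf_le_left : T ⊓ O ≤ T) hT).2 (h T)

/-- The pair conditions give the equivalence on every open subscheme. -/
theorem invRestrictEquiv (hA : SecBij O) (hB : PushInv O) {Z U : Scheme.{u}} (ι : Z ⟶ X) [IsOpenImmersion ι]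
    (j : U ⟶ Z) [IsOpenImmersion j] (hj : j.opensRange = ι ⁻¹ᵁ O) : ParaF.InvRestrictEquiv j := by
  have hA' : SecBij j.opensRange := hj ▸ hA.preimage O ι
  refine ⟨fun L L' _ hL' => hA'.hom_bijective j L hL', fun L₀ hL₀ => ?_⟩
  refine ⟨(Scheme.Modules.pushforward j).obj L₀, isInvertible_iff.2 fun z => ?_, ⟨(Scheme.Modules.restrictFunctorAdjCounitIso j).app L₀⟩⟩
  refine genNear_of_push ι (genNear_of_iso ((Scheme.Modules.pushforwardComp j ι).app L₀) ?_)
  exact hB U (j ≫ ι) L₀ hL₀ ι.opensRange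
    (by rw [Scheme.Hom.opensRange_comp, hj, Scheme.Hom.image_preimage_eq_opensRange_inf]) (ι z) ⟨z, rfl⟩

theorem pushInv_of_std
    (h : ∀ (V : X.Opens) (L : ((V ⊓ O : X.Opens) : Scheme.{u}).Modules), PicF.IsInvertible L →
      PicF.IsInvertible ((Scheme.Modules.pushforward (X.homOfLE (inf_le_left : V ⊓ O ≤ V))).obj L)) :
    PushInv O := by
  intro U g _ L hL V hr x hx
  let j := X.homOfLE (inf_le_left : V ⊓ O ≤ V)
  let e := IsOpenImmersion.isoOfRangeEq g (V ⊓ O).ι (by
    rw [Scheme.Opens.range_ι, ← hr]; rfl)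
  have hfac : e.hom ≫ j ≫ V.ι = g := by
    rw [Scheme.homOfLE_ι]; exact IsOpenImmersion.isoOfRangeEq_hom_fac _ _ _
  let L₁ := (Scheme.Modules.pushforward e.hom).obj L
  have h1 : GenNear ((Scheme.Modules.pushforward V.ι).obj ((Scheme.Modules.pushforward j).obj L₁)) x :=
    genNear_push V.ι (u := ⟨x, hx⟩) (isInvertible_iff.1 (h V L₁ (isInvertible_push_of_isIso e.hom hL)) _)
  refine genNear_of_iso ?_ h1
  exact (Scheme.Modules.pushforwardCongr hfac).symm.app L ≪≫
    ((Scheme.Modules.pushforwardComp e.hom (j ≫ V.ι)).symm.app L) ≪≫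
    ((Scheme.Modules.pushforwardComp j V.ι).symm.app L₁)

theorem isParafactorialPair_of {Y : Closeds X} (hA : SecBij Y.compl) (hB : PushInv Y.compl) :
    ParaF.IsParafactorialPair X Y := fun V =>
  invRestrictEquiv Y.compl hA hB V.ι _ (TopologicalSpace.Opens.ext (by
    ext ⟨x, hx⟩
    simp [Scheme.opensRange_homOfLE, hx]))

theorem secBij_of_pair {Y : Closeds X} (h : ParaF.IsParafactorialPair X Y) : SecBij Y.compl := by
  intro V
  have hO := (h V).1 _ _ (isInvertible_structure (V : Scheme.{u})) (isInvertible_structure (V : Scheme.{u}))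
  have := bijective_of_hom_bijective _ hO
  refine (bijective_fres_iff V.ι (inf_le_left : V ⊓ Y.compl ≤ V) (by rw [Scheme.Opens.opensRange_ι])).1 ?_
  have key : ∀ (T T' S S' : (V : Scheme.{u}).Opens) (hS : S' ≤ S) (hT : T' ≤ T), T = S → T' = S' →
      Function.Bijective (fres (V : Scheme.{u}) hS) → Function.Bijective (fres (V : Scheme.{u}) hT) := by
    rintro _ _ _ _ hS hT rfl rfl hb; exact hb
  refine key _ _ _ _ _ _ ?_ ?_ this
  · exact TopologicalSpace.Opens.ext (by ext ⟨x, hx⟩; simp [hx])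
  · rw [Scheme.opensRange_homOfLE]

theorem std_of_pair {Y : Closeds X} (h : ParaF.IsParafactorialPair X Y) (V : X.Opens)
    (L₀ : ((V ⊓ Y.compl : X.Opens) : Scheme.{u}).Modules) (hL₀ : PicF.IsInvertible L₀) :
    PicF.IsInvertible ((Scheme.Modules.pushforward (X.homOfLE (inf_le_left : V ⊓ Y.compl ≤ V))).obj L₀) := by
  obtain ⟨L, hL, ⟨e⟩⟩ := (h V).2 L₀ hL₀
  have hr : (X.homOfLE (inf_le_left : V ⊓ Y.compl ≤ V)).opensRange = V.ι ⁻¹ᵁ Y.compl :=
    TopologicalSpace.Opens.ext (by ext ⟨x, hx⟩; simp [Scheme.opensRange_homOfLE, hx])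
  haveI := SecBij.isIso_unit (X.homOfLE (inf_le_left : V ⊓ Y.compl ≤ V))
    (hr ▸ (secBij_of_pair h).preimage _ V.ι) hL
  exact isInvertible_of_iso ((Scheme.Modules.pushforward _).mapIso e.symm ≪≫
    (asIso ((Scheme.Modules.restrictAdjunction _).unit.app L)).symm) hL

theorem isParafactorialPair_iff {Y : Closeds X} :
    ParaF.IsParafactorialPair X Y ↔ SecBij Y.compl ∧ PushInv Y.compl :=
  ⟨fun h => ⟨secBij_of_pair h, pushInv_of_std _ (std_of_pair h)⟩, fun h => isParafactorialPair_of h.1 h.2⟩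

end GrothLib.ParaPair
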